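import Mathlib
import Cfsg.Agent.Lib.Helper65.RU.Defs

/-! # S2459 (PSL(3,q) is covered by the square of a semisimple class): shared definitions (helper65)

Sourour's factorization theorem in dimension 3: a non-scalar invertible matrix is, up to conjugation,
a product `L * U` of a lower and an upper triangular matrix with arbitrary prescribed diagonals. -/

set_option autoImplicit false

namespace Cfsg.Agent.Lib.Helper65.SF

open Matrix

variable {K : Type*} [Field K]

/-- lower triangular with diagonal `β` -/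
def IsLowerDiag {n : ℕ} (L : Matrix (Fin n) (Fin n) K) (β : Fin n → K) : Prop :=
  (∀ i j : Fin n, i < j → L i j = 0) ∧ ∀ i, L i i = β i

/-- upper triangular with diagonal `γ` -/
def IsUpperDiag {n : ℕ} (U : Matrix (Fin n) (Fin n) K) (γ : Fin n → K) : Prop :=
  (∀ i j : Fin n, j < i → U i j = 0) ∧ ∀ i, U i i = γ i

/-- conjugate to a product `L * U` with prescribed diagonals -/
def HasLU {n : ℕ} (A : Matrix (Fin n) (Fin n) K) (β γ : Fin n → K) : Prop :=
  ∃ P : GL (Fin n) K, ∃ L U : Matrix (Fin n) (Fin n) K,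
    IsLowerDiag L β ∧ IsUpperDiag U γ ∧ (P⁻¹ : GL (Fin n) K).val * A * P.val = L * U

/-- the Schur complement of the `(0,0)` entry (assumed nonzero) -/
def schurG {m : ℕ} (A : Matrix (Fin (m + 1)) (Fin (m + 1)) K) : Matrix (Fin m) (Fin m) K :=
  fun i j => A i.succ j.succ - A i.succ 0 * (A 0 0)⁻¹ * A 0 j.succ

/-- the semisimple element `diag(t, 1, t⁻¹)` -/
def sDiag (t : K) : Fin 3 → K := ![t, 1, t⁻¹]

end Cfsg.Agent.Lib.Helper65.SF
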