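import Cfsg.Agent.Lib.Helper65.SF.Defs
import Cfsg.Agent.Lib.Helper53.SFPE
import Cfsg.Agent.Lib.Helper12.SFQ3
import Cfsg.Agent.Lib.Helper13.SFST
import Cfsg.Agent.Lib.Helper13.SFBR
import Cfsg.Agent.Lib.Helper82.SFT2
import Cfsg.Agent.Lib.Helper21.SFDL
import Cfsg.Agent.Lib.Helper21.SFDU
import Cfsg.Agent.Lib.Helper21.SFSL
import Cfsg.Agent.Lib.Helper82.SFDS
import Cfsg.Agent.Lib.Helper42.SFPSL
import Cfsg.Agent.Lib.Helper53.SFNE

/-! # S2459: Sourour's factorization in dimension 3 and the product of two conjugates of `diag(t,1,t⁻¹)` (helper65) -/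

set_option autoImplicit false

namespace Cfsg.Agent.Lib.Helper65.SF

open Matrix Module
open Cfsg.Agent.Lib.Helper65.RU (comp dualOf dualOf_apply)

variable {K : Type*} [Field K]

theorem exists_dualOf {n : ℕ} (φ' : Module.Dual K (Fin n → K)) : ∃ φ : Fin n → K, dualOf φ = φ' := by
  refine ⟨fun i => φ' (Pi.single i 1), ?_⟩
  apply LinearMap.pi_ext'
  intro i
  apply LinearMap.ext_ring
  simp [dualOf_apply, dotProduct_single]

theorem hasLU_conj {n : ℕ} (g : Matrix (Fin n) (Fin n) K) (P₁ : GL (Fin n) K) (β γ : Fin n → K)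
    (h : HasLU ((P₁⁻¹ : GL (Fin n) K).val * g * P₁.val) β γ) : HasLU g β γ := by
  obtain ⟨P, L, U, hL, hU, h⟩ := h
  refine ⟨P₁ * P, L, U, hL, hU, ?_⟩
  rw [← h, _root_.mul_inv_rev, Units.val_mul, Units.val_mul]
  simp only [Matrix.mul_assoc]

/-- (SF-T3) Sourour in dimension 3. -/
theorem sourour_three (g : Matrix (Fin 3) (Fin 3) K) (hns : ¬ ∃ c : K, g = c • 1) (β γ : Fin 3 → K)
    (hβ : ∀ i, β i ≠ 0) (hγ : ∀ i, γ i ≠ 0) (hdet : g.det = ∏ i, β i * γ i) :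
    HasLU g β γ := by
  obtain ⟨δ, hδdef⟩ : ∃ δ : K, δ = β 0 * γ 0 := ⟨_, rfl⟩
  have hδ : δ ≠ 0 := by rw [hδdef]; exact mul_ne_zero (hβ 0) (hγ 0)
  have hdet0 : g.det ≠ 0 := by
    rw [hdet]; exact Finset.prod_ne_zero_iff.mpr (fun i _ => mul_ne_zero (hβ i) (hγ i))
  have hdet' : (δ⁻¹ • g).det ≠ 0 := by
    rw [Matrix.det_smul]
    exact mul_ne_zero (pow_ne_zero _ (inv_ne_zero hδ)) hdet0
  have hinj : Function.Injective (Matrix.toLin' (δ⁻¹ • g)) := by
    intro v w hvw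
    rw [Matrix.toLin'_apply, Matrix.toLin'_apply] at hvw
    exact Matrix.mulVec_injective_of_det_ne_zero hdet' hvw
  have hns' : ¬ ∃ c : K, Matrix.toLin' (δ⁻¹ • g) = c • LinearMap.id := by
    rintro ⟨c, hc⟩
    apply hns
    refine ⟨δ * c, ?_⟩
    have h1 : δ⁻¹ • g = c • (1 : Matrix (Fin 3) (Fin 3) K) := by
      apply Matrix.toLin'.injective
      rw [hc, map_smul, Matrix.toLin'_one]
    calc g = δ • (δ⁻¹ • g) := by rw [smul_smul, mul_inv_cancel₀ hδ, one_smul]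
      _ = (δ * c) • 1 := by rw [h1, smul_smul]
  have h3 : 3 ≤ finrank K (Fin 3 → K) := by simp
  obtain ⟨a, φ', h1, h2, h3'⟩ := exists_peel_nonscalar h3 _ hinj hns'
  obtain ⟨φ, rfl⟩ := exists_dualOf φ'
  rw [dualOf_apply] at h1
  have h2' : φ ⬝ᵥ (g *ᵥ a) = δ := by
    rw [dualOf_apply, Matrix.toLin'_apply, Matrix.smul_mulVec, dotProduct_smul, smul_eq_mul] at h2
    field_simp at h2
    rw [h2]
  have h3'' : ¬ ∃ c : K, ∀ v, φ ⬝ᵥ v = 0 →
      comp (Matrix.toLin' (δ⁻¹ • g)) a (dualOf φ) v = c • v := by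
    rintro ⟨c, hc⟩
    exact h3' ⟨c, fun v hv => hc v (by rwa [dualOf_apply] at hv)⟩
  obtain ⟨P₁, hP00, hPns⟩ := exists_conj_schurG (m := 1) g δ hδ a φ h1 h2' h3''
  apply hasLU_conj g P₁
  obtain ⟨A, hA⟩ : ∃ A : Matrix (Fin 3) (Fin 3) K, A = (P₁⁻¹ : GL (Fin 3) K).val * g * P₁.val := ⟨_, rfl⟩
  rw [← hA] at hP00 hPns ⊢
  have hdetA : A.det = g.det := by
    rw [hA, Matrix.det_mul, Matrix.det_mul, mul_comm, ← mul_assoc, ← Matrix.det_mul]
    have : P₁.val * (P₁⁻¹ : GL (Fin 3) K).val = 1 := by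
      rw [← Units.val_mul, mul_inv_cancel, Units.val_one]
    rw [this, Matrix.det_one, one_mul]
  have hA00 : A 0 0 ≠ 0 := by rw [hP00]; exact hδ
  have hdS : (schurG A).det = β 1 * γ 1 * (β 2 * γ 2) := by
    have := det_schurG (m := 2) A hA00
    rw [hdetA, hdet, hP00, Fin.prod_univ_three, ← hδdef] at this
    have h4 : δ * (β 1 * γ 1 * (β 2 * γ 2)) = δ * (schurG A).det := by rw [← this]; ring
    exact (mul_left_cancel₀ hδ h4).symm
  have hS : HasLU (schurG A) (fun i => β i.succ) (fun i => γ i.succ) :=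
    sourour_two (schurG A) hPns _ _ (fun i => hβ _) (fun i => hγ _) hdS
  exact step_LU (m := 1) A β γ (hβ 0) (hγ 0) (by rw [hP00, hδdef]) hS

theorem sDiag_injective (t : K) (ht0 : t ≠ 0) (ht : t ^ 2 ≠ 1) : Function.Injective (sDiag t) := by
  have h1 : t ≠ 1 := by rintro rfl; exact ht (one_pow 2)
  have h2 : t⁻¹ ≠ 1 := by
    intro h; exact h1 (by rw [← inv_inv t, h, inv_one])
  have h3 : t ≠ t⁻¹ := by
    intro h
    apply ht
    calc t ^ 2 = t * t := sq t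
      _ = t * t⁻¹ := by rw [← h]
      _ = 1 := mul_inv_cancel₀ ht0
  intro i j hij
  fin_cases i <;> fin_cases j <;> simp [sDiag] at hij ⊢
  · exact absurd hij h1
  · exact absurd hij h3
  · exact absurd hij.symm h1
  · exact absurd hij h1
  · exact absurd hij.symm h3
  · exact absurd hij h1

/-- (SF-MAIN) every non-scalar element of `SL₃(K)` is a product of two `SL₃`-conjugates of
`diag(t,1,t⁻¹)`, `t ≠ 0`, `t² ≠ 1`. -/
theorem sl3_two_conj (t : K) (ht0 : t ≠ 0) (ht : t ^ 2 ≠ 1)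
    (s : Matrix.SpecialLinearGroup (Fin 3) K) (hs : s.val = Matrix.diagonal (sDiag t))
    (g : Matrix.SpecialLinearGroup (Fin 3) K) (hns : ¬ ∃ c : K, g.val = c • 1) :
    ∃ u v : Matrix.SpecialLinearGroup (Fin 3) K, g = u * s * u⁻¹ * (v * s * v⁻¹) := by
  have hβ : ∀ i, sDiag t i ≠ 0 := by
    intro i; fin_cases i <;> simp [sDiag, ht0]
  have hdet : g.val.det = ∏ i, sDiag t i * sDiag t i := by
    rw [g.2, Fin.prod_univ_three]
    simp [sDiag]
    field_simp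
  obtain ⟨P, L, U, hL, hU, h⟩ := sourour_three g.val hns (sDiag t) (sDiag t) hβ hβ hdet
  have hinj := sDiag_injective t ht0 ht
  obtain ⟨Q₁, hQ₁⟩ := lower_conj_diagonal L (sDiag t) hL hinj
  obtain ⟨Q₂, hQ₂⟩ := upper_conj_diagonal U (sDiag t) hU hinj
  obtain ⟨u, hu⟩ := exists_sl_conj (P * Q₁) (sDiag t)
  obtain ⟨v, hv⟩ := exists_sl_conj (P * Q₂) (sDiag t)
  refine ⟨u, v, ?_⟩
  apply Subtype.ext
  have hPP : P.val * (P⁻¹ : GL (Fin 3) K).val = 1 := by
    rw [← Units.val_mul, mul_inv_cancel, Units.val_one]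
  have hg : g.val = P.val * (L * U) * (P⁻¹ : GL (Fin 3) K).val := by
    rw [← h]
    calc g.val = (P.val * (P⁻¹ : GL (Fin 3) K).val) * g.val * (P.val * (P⁻¹ : GL (Fin 3) K).val) := by
          rw [hPP, Matrix.one_mul, Matrix.mul_one]
      _ = _ := by simp only [Matrix.mul_assoc]
  have hPinv : (P⁻¹ : GL (Fin 3) K).val * P.val = 1 := by
    rw [← Units.val_mul, inv_mul_cancel, Units.val_one]
  have hR : (u * s * u⁻¹ * (v * s * v⁻¹)).val =
      (u.val * Matrix.diagonal (sDiag t) * (u⁻¹).val) * (v.val * Matrix.diagonal (sDiag t) * (v⁻¹).val) := by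
    simp only [Matrix.SpecialLinearGroup.coe_mul, hs]
  rw [hR, ← hu, ← hv, hg, hQ₁, hQ₂,
    _root_.mul_inv_rev, _root_.mul_inv_rev, Units.val_mul, Units.val_mul, Units.val_mul, Units.val_mul]
  simp only [Matrix.mul_assoc]
  congr 3
  rw [← Matrix.mul_assoc (P⁻¹ : GL (Fin 3) K).val, hPinv, Matrix.one_mul]

end Cfsg.Agent.Lib.Helper65.SF
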